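import Cfsg.Agent.H419.Spor.Mathieu
import Cfsg.Agent.S0372

/-!
# Element orders of `M24` (helper723)

`exists_order` : `M24` has elements of orders `4, 6, 8, 10, 12, 14, 15, 21`.
-/

set_option autoImplicit false

namespace Cfsg.Agent.H723.Spor.MOrders

open Cfsg Cfsg.Agent.H419.Spor.Mathieu

theorem J_mem : projInv ∈ M24 := Cfsg.Agent.S0372.result

/-- order from a permutation -/
theorem order_of {g : Equiv.Perm GolayPt} (hg : g ∈ M24) {n : ℕ} (hn : 0 < n)
    (h : ∀ a, (g ^ n) a = a) (h' : ∀ p ∈ n.primeFactors, ∃ a, (g ^ (n / p)) a ≠ a) :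
    ∃ x : M24, orderOf x = n := by
  refine ⟨⟨g, hg⟩, orderOf_eq hn ?_ ?_⟩
  · apply Subtype.ext
    exact Equiv.ext h
  · intro p hp h1
    obtain ⟨a, ha⟩ := h' p hp
    have h2 : g ^ (n / p) = 1 := congrArg Subtype.val h1
    rw [h2] at ha
    exact ha rfl

theorem order8 : ∃ x : M24, orderOf x = 8 := by
  refine order_of (g := T * M * T * cubeTwist) (mul_mem (mul_mem (mul_mem T_mem M_mem) T_mem) C_mem)
    (by norm_num) (by decide +kernel) ?_
  intro p hp
  have h3 : p = 2 := by
    have : p ∈ ({2} : Finset ℕ) := by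
      rw [show ({2} : Finset ℕ) = (8 : ℕ).primeFactors by decide +kernel]
      exact hp
    simpa using this
  subst h3
  decide +kernel

theorem order10 : ∃ x : M24, orderOf x = 10 := by
  refine order_of (g := cubeTwist * projInv) (mul_mem C_mem J_mem)
    (by norm_num) (by decide +kernel) ?_
  intro p hp
  have h3 : p = 2 ∨ p = 5 := by
    have : p ∈ ({2, 5} : Finset ℕ) := by
      rw [show ({2, 5} : Finset ℕ) = (10 : ℕ).primeFactors by decide +kernel]
      exact hp
    simpa using this
  rcases h3 with rfl | rfl <;> decide +kernel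

theorem order12 : ∃ x : M24, orderOf x = 12 := by
  refine order_of (g := T * T * T * projInv) (mul_mem (mul_mem (mul_mem T_mem T_mem) T_mem) J_mem)
    (by norm_num) (by decide +kernel) ?_
  intro p hp
  have h3 : p = 2 ∨ p = 3 := by
    have : p ∈ ({2, 3} : Finset ℕ) := by
      rw [show ({2, 3} : Finset ℕ) = (12 : ℕ).primeFactors by decide +kernel]
      exact hp
    simpa using this
  rcases h3 with rfl | rfl <;> decide +kernel

theorem order15 : ∃ x : M24, orderOf x = 15 := by
  refine order_of (g := T * M * cubeTwist) (mul_mem (mul_mem T_mem M_mem) C_mem)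
    (by norm_num) (by decide +kernel) ?_
  intro p hp
  have h3 : p = 3 ∨ p = 5 := by
    have : p ∈ ({3, 5} : Finset ℕ) := by
      rw [show ({3, 5} : Finset ℕ) = (15 : ℕ).primeFactors by decide +kernel]
      exact hp
    simpa using this
  rcases h3 with rfl | rfl <;> decide +kernel

theorem order21 : ∃ x : M24, orderOf x = 21 := by
  refine order_of (g := T * cubeTwist * T * cubeTwist * projInv)
    (mul_mem (mul_mem (mul_mem (mul_mem T_mem C_mem) T_mem) C_mem) J_mem)
    (by norm_num) (by decide +kernel) ?_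
  intro p hp
  have h3 : p = 3 ∨ p = 7 := by
    have : p ∈ ({3, 7} : Finset ℕ) := by
      rw [show ({3, 7} : Finset ℕ) = (21 : ℕ).primeFactors by decide +kernel]
      exact hp
    simpa using this
  rcases h3 with rfl | rfl <;> decide +kernel

theorem order14 : ∃ x : M24, orderOf x = 14 := ⟨_, x14_order⟩

theorem order4 : ∃ x : M24, orderOf x = 4 := by
  obtain ⟨x, hx⟩ := order12
  exact Cfsg.Agent.H419.Count.exists_order_of_dvd (x := x) (by rw [hx]; norm_num)

theorem order6 : ∃ x : M24, orderOf x = 6 := by
  obtain ⟨x, hx⟩ := order12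
  exact Cfsg.Agent.H419.Count.exists_order_of_dvd (x := x) (by rw [hx]; norm_num)

/-- Elements of `M24` of composite orders. -/
theorem exists_order {n : ℕ} (hn : n ∈ ({4, 6, 8, 10, 12, 14, 15, 21} : Finset ℕ)) :
    ∃ x : M24, orderOf x = n := by
  simp only [Finset.mem_insert, Finset.mem_singleton] at hn
  rcases hn with rfl | rfl | rfl | rfl | rfl | rfl | rfl | rfl
  exacts [order4, order6, order8, order10, order12, order14, order15, order21]

end Cfsg.Agent.H723.Spor.MOrders
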