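import Cfsg.Agent.H723.Spor.Th
import Cfsg.Agent.CpAutTh.ThreeE
import Cfsg.Agent.H419.RowC

/-!
# `Th`: a vanishing element of order 20 (helper723)

The centralizer of an element of order 20 has order 20 and there are at least 21 classes.
-/

set_option autoImplicit false
set_option maxRecDepth 100000

namespace Cfsg.Agent.H723.Spor.ThMix

open Subgroup Cfsg Cfsg.Agent.H713 Cfsg.Agent.H665.NoPQ
open Cfsg.Agent.Th.Base Cfsg.Agent.Th.Word Cfsg.Agent.Th.RelWords Cfsg.Agent.Th.PermTab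
  Cfsg.Agent.Th.KOracle Cfsg.Agent.Th.KPerm Cfsg.Agent.Th.NineAct Cfsg.Agent.Th.CStruct
  Cfsg.Agent.Th.COracleDef Cfsg.Agent.Th.COracleSound
open Cfsg.Agent.KFacts.Th.Mask Cfsg.Agent.KFacts.Th.Struct
open Cfsg.Agent.CpAutTh.Data Cfsg.Agent.CpAutTh.Alt Cfsg.Agent.CpAutTh.Local Cfsg.Agent.CpAutTh.ThreePerm Cfsg.Agent.CpAutTh.ThreeE
open Cfsg.Agent.CpAutTh.Mid

universe u v

def pw (w : List ℕ) (k : ℕ) : List ℕ := Nat.rec [] (fun _ ih => w ++ ih) k

theorem ev_pw {G : Type*} [Group G] (γ : ℕ → G) (L : List ℕ) (k : ℕ) : ev γ (pw L k) = ev γ L ^ k := by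
  induction k with
  | zero => rw [pow_zero]; rfl
  | succ k ih =>
    rw [show pw L (k + 1) = L ++ pw L k from rfl, ev_append, ih, pow_succ']

def Z5 : List ℕ := [5, 9, 10, 4, 10, 7, 5, 4, 7, 5, 10] ++ (wc 0 ++ wc 2)
def W18 : List ℕ := [1, 4, 5, 6]
def W20 : List ℕ := Y5 ++ X5
def W24 : List ℕ := [10, 6, 4]
def W28 : List ℕ := [6] ++ (wc 0 ++ wc 1)
def W30 : List ℕ := [10, 6, 5, 4]

theorem cZ5 : ∀ x ∈ Z5, isC x = true := by decide +kernel
theorem cW18 : ∀ x ∈ W18, isC x = true := by decide +kernel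
theorem cW20 : ∀ x ∈ W20, isC x = true := by decide +kernel
theorem cW24 : ∀ x ∈ W24, isC x = true := by decide +kernel
theorem cW28 : ∀ x ∈ W28, isC x = true := by decide +kernel
theorem cW30 : ∀ x ∈ W30, isC x = true := by decide +kernel

theorem k18 : corc (pw W18 9 ++ [1]) = true := by decide +kernel
theorem k20 : corc (pw W20 10 ++ [1]) = true := by decide +kernel
theorem k24 : corc (pw W24 12 ++ [1]) = true := by decide +kernel
theorem k28 : corc (pw W28 14 ++ [1]) = true := by decide +kernel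
theorem k30 : corc (pw W30 15 ++ [1]) = true := by decide +kernel

theorem z5x : corc (Z5 ++ (X5 ++ (iw Z5 ++ iw X5))) = true := by decide +kernel
theorem z5y : corc (Z5 ++ (Y5 ++ (iw Z5 ++ (iw Y5 ++ [1])))) = true := by decide +kernel

theorem p18 : (pm9 W18) ^ 6 ≠ 1 := by decide +kernel
theorem p20 : (pm9 W20) ^ 4 ≠ 1 := by decide +kernel
theorem p24 : (pm9 W24) ^ 8 ≠ 1 := by decide +kernel
theorem p28 : (pm9 W28) ^ 4 ≠ 1 := by decide +kernel
theorem p30 : (pm9 W30) ^ 10 ≠ 1 ∧ (pm9 W30) ^ 6 ≠ 1 := by decide +kernel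
theorem pz : pm9 Z5 * (pm9 Y5 * pm9 X5) = pm9 Y5 * pm9 X5 * pm9 Z5 := by decide +kernel

section

variable {G : Type u} [Group G] {γ : ℕ → G} (h : Ctx γ)
  {f : sub γ isC →* alternatingGroup (Fin 9)} (F : Epi γ f)
include h F

omit h in
theorem pow_ne {W : List ℕ} (hW : ∀ x ∈ W, isC x = true) {k : ℕ} (hk : (pm9 W) ^ k ≠ 1) : ev γ W ^ k ≠ 1 := by
  intro h1
  apply hk
  rw [← F.word W hW, ← Subgroup.coe_pow, ← map_pow]
  have h2 : (⟨ev γ W, ev_mem_sub hW⟩ : sub γ isC) ^ k = 1 := Subtype.ext h1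
  rw [h2, map_one]
  rfl

theorem ord_W {W : List ℕ} (hW : ∀ x ∈ W, isC x = true) {n : ℕ} (hn : 0 < n) (h1 : corc (pw W n ++ [1]) = true)
    (hp : ∀ p : ℕ, p.Prime → p ∣ 2 * n → p = 2 ∨ (pm9 W) ^ (2 * n / p) ≠ 1) : orderOf (ev γ W) = 2 * n := by
  have h2 := ev_one h h1
  rw [ev_append, ev_pw, ev_singleton] at h2
  have h3 : ev γ W ^ n = γ 1 := by
    rw [eq_inv_of_mul_eq_one_left h2]
    exact inv_eq_of_mul_eq_one_left h.aa
  refine orderOf_eq_of_pow_and_pow_div_prime (by omega) ?_ fun p hpp hd => ?_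
  · rw [mul_comm, pow_mul, h3, pow_two, h.aa]
  · rcases hp p hpp hd with rfl | h4
    · rw [Nat.mul_div_cancel_left _ (by norm_num), h3]
      exact h.a1
    · exact pow_ne F hW h4

omit h F in
theorem prime_two_three {p n : ℕ} (hp : p.Prime) (hd : p ∣ 2 ^ n * 3 ^ n) : p = 2 ∨ p = 3 := by
  rcases (Nat.Prime.dvd_mul hp).1 hd with h1 | h1
  · exact Or.inl ((Nat.prime_dvd_prime_iff_eq hp Nat.prime_two).1 (hp.dvd_of_dvd_pow h1))
  · exact Or.inr ((Nat.prime_dvd_prime_iff_eq hp Nat.prime_three).1 (hp.dvd_of_dvd_pow h1))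

theorem o18 : orderOf (ev γ W18) = 18 :=
  ord_W h F cW18 (n := 9) (by norm_num) k18 fun p hp hd => by
    rcases prime_two_three (n := 3) hp (hd.trans (by norm_num)) with rfl | rfl
    · exact Or.inl rfl
    · exact Or.inr p18

theorem o24 : orderOf (ev γ W24) = 24 :=
  ord_W h F cW24 (n := 12) (by norm_num) k24 fun p hp hd => by
    rcases prime_two_three (n := 3) hp (hd.trans (by norm_num)) with rfl | rfl
    · exact Or.inl rfl
    · exact Or.inr p24

theorem o20 : orderOf (ev γ W20) = 20 :=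
  ord_W h F cW20 (n := 10) (by norm_num) k20 fun p hp hd => by
    rcases (Nat.Prime.dvd_mul hp).1 (hd.trans (show 2 * 10 ∣ 2 ^ 2 * 5 by norm_num)) with h1 | h1
    · exact Or.inl ((Nat.prime_dvd_prime_iff_eq hp Nat.prime_two).1 (hp.dvd_of_dvd_pow h1))
    · right
      rw [(Nat.prime_dvd_prime_iff_eq hp Nat.prime_five).1 h1]
      exact p20

theorem o28 : orderOf (ev γ W28) = 28 :=
  ord_W h F cW28 (n := 14) (by norm_num) k28 fun p hp hd => by
    rcases (Nat.Prime.dvd_mul hp).1 (hd.trans (show 2 * 14 ∣ 2 ^ 2 * 7 by norm_num)) with h1 | h1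
    · exact Or.inl ((Nat.prime_dvd_prime_iff_eq hp Nat.prime_two).1 (hp.dvd_of_dvd_pow h1))
    · right
      rw [(Nat.prime_dvd_prime_iff_eq hp (by norm_num)).1 h1]
      exact p28

theorem o30 : orderOf (ev γ W30) = 30 :=
  ord_W h F cW30 (n := 15) (by norm_num) k30 fun p hp hd => by
    rcases (Nat.Prime.dvd_mul hp).1 (hd.trans (show 2 * 15 ∣ 6 * 5 by norm_num)) with h1 | h1
    · rcases prime_two_three (n := 1) hp (h1.trans (by norm_num)) with rfl | rfl
      · exact Or.inl rfl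
      · exact Or.inr p30.1
    · right
      rw [(Nat.prime_dvd_prime_iff_eq hp Nat.prime_five).1 h1]
      exact p30.2

omit h F in
theorem card_cent40 : Nat.card ↥(centralizer ({pm9 Y5 * pm9 X5} : Set (Equiv.Perm (Fin 9)))) = 40 := by
  rw [Equiv.Perm.nat_card_centralizer, tY5]
  decide

omit h in
theorem card_cent20 : Nat.card ↥(centralizer ({f ⟨ev γ Y5, ev_mem_sub cY5⟩ * f ⟨ev γ X5, ev_mem_sub c5⟩} :
    Set (alternatingGroup (Fin 9)))) = 20 := by
  have h2 := card_cent_alt (f ⟨ev γ Y5, ev_mem_sub cY5⟩ * f ⟨ev γ X5, ev_mem_sub c5⟩) c01 s01 (by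
    rw [Subgroup.coe_mul, F.word X5 c5, F.word Y5 cY5]; exact mY5)
  rw [Subgroup.coe_mul, F.word X5 c5, F.word Y5 cY5, card_cent40] at h2
  omega

/-- the centralizer of the element of order 20 -/
theorem card_le : Nat.card ↥(centralizer ({ev γ W20} : Set G)) ≤ 20 := by
  classical
  have hfin := h.fin
  have hYX : ev γ Y5 * ev γ X5 = ev γ X5 * ev γ Y5 := by
    have h1 := ev_one h y5.1
    rw [ev_append, ev_append, ev_append, ev_iw h.inv, ev_iw h.inv] at h1
    rw [← mul_inv_eq_one, ← h1]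
    group
  have hYY : ev γ Y5 * ev γ Y5 = γ 1 := by
    have h1 := ev_one h y5.2
    rw [ev_append, ev_append, ev_singleton, ← mul_assoc] at h1
    rw [mul_eq_one_iff_eq_inv.1 h1]
    exact inv_eq_of_mul_eq_one_right h.aa
  have hZX : ev γ Z5 * ev γ X5 = ev γ X5 * ev γ Z5 := by
    have h1 := ev_one h z5x
    rw [ev_append, ev_append, ev_append, ev_iw h.inv, ev_iw h.inv] at h1
    rw [← mul_inv_eq_one, ← h1]
    group
  have hZY : ev γ Z5 * ev γ Y5 ≠ ev γ Y5 * ev γ Z5 := by
    intro hcon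
    have h1 := ev_one h z5y
    rw [ev_append, ev_append, ev_append, ev_append, ev_iw h.inv, ev_iw h.inv, ev_singleton, ← mul_assoc, hcon] at h1
    apply h.a1
    rw [← h1]
    group
  set x := ev γ X5 with hx
  set y := ev γ Y5 with hy
  set z := ev γ Z5 with hz
  have hx5 : x ^ 5 = 1 := p5 h
  have hy4 : y ^ 4 = 1 := by
    rw [show 4 = 2 * 2 by norm_num, pow_mul, pow_two, pow_two, hYY, h.aa]
  have hW : ev γ W20 = y * x := ev_append _ _ _
  rw [hW]
  have hcm : Commute y x := hYX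
  have hw5 : (y * x) ^ 5 = y := by
    rw [hcm.mul_pow, hx5, mul_one, pow_succ, hy4, one_mul]
  have hw16 : (y * x) ^ 16 = x := by
    rw [hcm.mul_pow, show y ^ 16 = (y ^ 4) ^ 4 by rw [← pow_mul], hy4, one_pow, one_mul,
      show x ^ 16 = (x ^ 5) ^ 3 * x by rw [← pow_mul, ← pow_succ], hx5, one_pow, one_mul]
  have hKy : ∀ k ∈ centralizer ({y * x} : Set G), k * y = y * k := by
    intro k hk
    have h1 : Commute k (y * x) := mem_centralizer_singleton_iff.1 hk
    have h2 := h1.pow_right 5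
    rw [hw5] at h2
    exact h2
  have hKx : ∀ k ∈ centralizer ({y * x} : Set G), k * x = x * k := by
    intro k hk
    have h1 : Commute k (y * x) := mem_centralizer_singleton_iff.1 hk
    have h2 := h1.pow_right 16
    rw [hw16] at h2
    exact h2
  have hKa : ∀ k ∈ centralizer ({y * x} : Set G), k * γ 1 = γ 1 * k := by
    intro k hk
    have h1 := hKy k hk
    rw [← hYY, ← mul_assoc, h1, mul_assoc, h1, mul_assoc]
  have hle : centralizer ({y * x} : Set G) ≤ sub γ isC := fun k hk => h.mem_C.2 (hKa k hk)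
  let φ : ↥(centralizer ({y * x} : Set G)) →* alternatingGroup (Fin 9) := f.comp (Subgroup.inclusion hle)
  have hker : ∀ k : ↥(centralizer ({y * x} : Set G)), φ k = 1 → (k : G) = 1 ∨ (k : G) = γ 1 := by
    intro k hk
    have h1 : (k : G) ∈ Q0 γ := (mem_ker F (x := Subgroup.inclusion hle k)).1 (MonoidHom.mem_ker.2 hk)
    exact inv_ker h chk5 fix5 h1 (hKx k k.2)
  have hker2 : Nat.card ↥φ.ker ≤ 2 := by
    have h1 : Function.Injective fun k : ↥φ.ker => (if ((k : ↥(centralizer ({y * x} : Set G))) : G) = 1 then (0 : Fin 2) else 1) := by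
      intro k l hkl
      apply Subtype.ext
      apply Subtype.ext
      have hk := hker k k.2
      have hl := hker l l.2
      simp only at hkl
      rcases hk with hk | hk <;> rcases hl with hl | hl
      · rw [hk, hl]
      · rw [hk, hl, if_pos rfl, if_neg h.a1] at hkl
        exact absurd hkl (by decide)
      · rw [hk, hl, if_pos rfl, if_neg h.a1] at hkl
        exact absurd hkl (by decide)
      · rw [hk, hl]
    have h2 := Nat.card_le_card_of_injective _ h1
    rwa [Nat.card_fin] at h2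
  set xe : sub γ isC := ⟨ev γ X5, ev_mem_sub c5⟩ with hxe
  set ye : sub γ isC := ⟨ev γ Y5, ev_mem_sub cY5⟩ with hye
  have hrange : φ.range ≤ centralizer ({f ye * f xe} : Set (alternatingGroup (Fin 9))) := by
    rintro _ ⟨k, rfl⟩
    rw [mem_centralizer_singleton_iff, ← map_mul]
    change f (Subgroup.inclusion hle k) * f (ye * xe) = f (ye * xe) * f (Subgroup.inclusion hle k)
    rw [← map_mul, ← map_mul]
    congr 1
    exact Subtype.ext (mem_centralizer_singleton_iff.1 k.2)
  have h20 := card_cent20 F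
  have hne : Nat.card ↥φ.range ≠ 20 := by
    intro h1
    have h2 : φ.range = centralizer ({f ye * f xe} : Set (alternatingGroup (Fin 9))) :=
      Subgroup.eq_of_le_of_card_ge hrange (by rw [h1]; exact h20.le)
    have h3 : f ⟨z, ev_mem_sub cZ5⟩ ∈ centralizer ({f ye * f xe} : Set (alternatingGroup (Fin 9))) := by
      rw [mem_centralizer_singleton_iff]
      apply Subtype.ext
      have h4 : ((f ⟨z, ev_mem_sub cZ5⟩ : alternatingGroup (Fin 9)) : Equiv.Perm (Fin 9)) = pm9 Z5 := F.word Z5 cZ5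
      have h5 : ((f ye : alternatingGroup (Fin 9)) : Equiv.Perm (Fin 9)) = pm9 Y5 := F.word Y5 cY5
      have h6 : ((f xe : alternatingGroup (Fin 9)) : Equiv.Perm (Fin 9)) = pm9 X5 := F.word X5 c5
      simp only [Subgroup.coe_mul, h4, h5, h6]
      exact pz
    rw [← h2] at h3
    obtain ⟨k, hk⟩ := h3
    have h4 : (⟨z, ev_mem_sub cZ5⟩ : sub γ isC)⁻¹ * Subgroup.inclusion hle k ∈ f.ker := by
      rw [MonoidHom.mem_ker, map_mul, map_inv]
      change (f ⟨z, ev_mem_sub cZ5⟩)⁻¹ * φ k = 1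
      rw [hk, inv_mul_cancel]
    have h5 : z⁻¹ * (k : G) ∈ Q0 γ := (mem_ker F).1 h4
    have h6 : z⁻¹ * (k : G) * x = x * (z⁻¹ * (k : G)) := by
      have h7 : Commute z x := hZX
      have h8 : Commute (k : G) x := hKx k k.2
      exact (h7.inv_left.mul_left h8).eq
    have hky : Commute (k : G) y := hKy k k.2
    apply hZY
    rcases inv_ker h chk5 fix5 h5 h6 with h7 | h7
    · have h8 : z = k := (inv_mul_eq_one.1 h7)
      rw [h8]
      exact hky
    · have h8 : z = k * γ 1 := by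
        have h9 : (k : G) = z * γ 1 := by rw [← h7, mul_inv_cancel_left]
        rw [h9, mul_assoc, h.aa, mul_one]
      have hay : Commute (γ 1) y := by
        rw [← hYY]
        exact (Commute.refl y).mul_left (Commute.refl y)
      rw [h8]
      exact hky.mul_left hay
  have hdvd : Nat.card ↥φ.range ∣ 20 := by
    rw [← h20]
    exact Subgroup.card_dvd_of_le hrange
  have hle10 : Nat.card ↥φ.range ≤ 10 := by
    obtain ⟨c, hc⟩ := hdvd
    rcases Nat.lt_or_ge c 2 with h1 | h1
    · interval_cases c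
      · omega
      · omega
    · have h2 := Nat.mul_le_mul_left (Nat.card ↥φ.range) h1
      omega
  have h3 := Subgroup.card_mul_index φ.ker
  rw [Subgroup.index_ker] at h3
  rw [← h3]
  exact (Nat.mul_le_mul hker2 hle10).trans (by norm_num)

end

theorem evMix' : H419.Row.EvMix Spor.Th := by
  have hfin : Finite Spor.Th := Nat.finite_of_card_ne_zero (by rw [Th.card_th]; norm_num)
  have h := Cfsg.Agent.KFacts.Th.Main.ctx
  obtain ⟨f, F⟩ := exists_epi h
  have hv : Van Spor.Th (ev Cfsg.Agent.Th.IndexUpper.gTh W20) := by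
    have hp : ∀ p : ℕ, p.Prime → p ∣ 90745943887872000 → ∃ g : Spor.Th, orderOf g = p := by
      intro p hp hd
      have : Fact p.Prime := ⟨hp⟩
      exact exists_prime_orderOf_dvd_card' p (by rw [Th.card_th]; exact hd)
    refine H419.Count.van_of_orders {1, 2, 3, 4, 6, 8, 12, 24, 7, 14, 28, 5, 10, 15, 30, 9, 18, 20, 13, 19, 31} ?_
      (lt_of_le_of_lt (card_le h F) (by decide))
    intro n hn
    have h24 : ∀ n, n ∣ 24 → ∃ g : Spor.Th, orderOf g = n := fun n hn =>
      H419.Count.exists_order_of_dvd (x := ev Cfsg.Agent.Th.IndexUpper.gTh W24) (by rw [o24 h F]; exact hn)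
    have h28 : ∀ n, n ∣ 28 → ∃ g : Spor.Th, orderOf g = n := fun n hn =>
      H419.Count.exists_order_of_dvd (x := ev Cfsg.Agent.Th.IndexUpper.gTh W28) (by rw [o28 h F]; exact hn)
    have h30 : ∀ n, n ∣ 30 → ∃ g : Spor.Th, orderOf g = n := fun n hn =>
      H419.Count.exists_order_of_dvd (x := ev Cfsg.Agent.Th.IndexUpper.gTh W30) (by rw [o30 h F]; exact hn)
    have h18 : ∀ n, n ∣ 18 → ∃ g : Spor.Th, orderOf g = n := fun n hn =>
      H419.Count.exists_order_of_dvd (x := ev Cfsg.Agent.Th.IndexUpper.gTh W18) (by rw [o18 h F]; exact hn)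
    simp only [Finset.mem_insert, Finset.mem_singleton] at hn
    rcases hn with rfl | rfl | rfl | rfl | rfl | rfl | rfl | rfl | rfl | rfl | rfl | rfl | rfl | rfl | rfl | rfl |
      rfl | rfl | rfl | rfl | rfl
    · exact h24 _ (by norm_num)
    · exact h24 _ (by norm_num)
    · exact h24 _ (by norm_num)
    · exact h24 _ (by norm_num)
    · exact h24 _ (by norm_num)
    · exact h24 _ (by norm_num)
    · exact h24 _ (by norm_num)
    · exact h24 _ (by norm_num)
    · exact h28 _ (by norm_num)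
    · exact h28 _ (by norm_num)
    · exact h28 _ (by norm_num)
    · exact h30 _ (by norm_num)
    · exact h30 _ (by norm_num)
    · exact h30 _ (by norm_num)
    · exact h30 _ (by norm_num)
    · exact h18 _ (by norm_num)
    · exact h18 _ (by norm_num)
    · exact ⟨_, o20 h F⟩
    · exact hp _ (by norm_num) (by norm_num)
    · exact hp _ (by norm_num) (by norm_num)
    · exact hp _ (by norm_num) (by norm_num)
  have hvz := H419.Count.vz_of_inner hv (H419.Row.inner_of_out Cfsg.Agent.S2083.result)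
  exact ⟨_, hvz, by rw [o20 h F]; norm_num, 5, Nat.prime_five, by norm_num, by rw [o20 h F]; norm_num⟩

/-- **The row `Th`.** -/
theorem evMix {S : Type v} [Group S] (h : Spor.IsoTh S) : H419.Row.EvMix S := by
  obtain ⟨e⟩ := h
  exact H419.Row.EvMix.mulEquiv e.symm evMix'

end Cfsg.Agent.H723.Spor.ThMix
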