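import Cfsg.Agent.H620.RowSporB
import Cfsg.Agent.H419.Spor.Co1
import Cfsg.Agent.H723.Spor.Tool

/-!
# The rows of the Conway groups of S4983 (helper723)
-/

set_option autoImplicit false

namespace Cfsg.Agent.H723.Spor.Co

open Cfsg Cfsg.Agent.H620 Cfsg.Agent.H713 Cfsg.Agent.H620.RowClass Cfsg.Agent.H620.SporCrit
open Cfsg.Agent.H665.NoPQ Cfsg.Agent.H419.Row Cfsg.Agent.H419.Count Cfsg.Agent.H419.LeechIrr
open Cfsg.Agent.H419.Spor.Mathieu Cfsg.Agent.H419.TwoTrans Cfsg.Agent.H620.RowSporA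
open Cfsg.Agent.SporadicA.Co0Mono Cfsg.Agent.SporadicA.Co1Simple Cfsg.Agent.H419.LeechFix
open Cfsg.Agent.H723.Spor.Tool

universe u

theorem card_co3 : Nat.card Spor.Co3 = 495766656000 :=
  (Cfsg.Agent.OddHalf.D8.RowCo3.card_of (K := Spor.Co3) ⟨MulEquiv.refl _⟩).2

theorem hasDZ_co3 : HasDZ 23 Spor.Co3 := by
  obtain ⟨hs, hcard⟩ := Cfsg.Agent.OddHalf.D8.RowCo3.card_of (K := Spor.Co3) ⟨MulEquiv.refl _⟩
  have hfin : Finite Spor.Co3 := Nat.finite_of_card_ne_zero (by rw [hcard]; norm_num)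
  have hfac : (Nat.card Spor.Co3).factorization 23 = 1 := by
    rw [hcard]; exact factorization_eq_one (by norm_num) (by norm_num)
  obtain ⟨μ, hμ⟩ := irr23 Cfsg.Agent.H419.Spor.Co3.inc Cfsg.Agent.H419.Spor.Co3.inc_injective
    (by rw [hcard]; norm_num) Cfsg.Agent.H419.Spor.Co3.k ⟨Cfsg.Agent.H419.Spor.Co3.y14, fun h => by
      have := Cfsg.Agent.H419.Spor.Co3.order
      rw [h, orderOf_one] at this
      norm_num at this⟩ Cfsg.Agent.H419.Spor.Co3.inc_k (w := Spor.leechV) (fun h => by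
        have := congrArg (fun v : leechLattice => (v : GolayPt → ℤ) none) h
        exact absurd this (by decide)) Cfsg.Agent.H419.Spor.Co3.inc_fix
  exact Cfsg.Agent.H713.Spor.Small.hasDZ_of_lchi hfac hμ

theorem hasDZ_co2 : HasDZ 23 Spor.Co2 := by
  have hs : IsSimpleGroup Spor.Co2 := Cfsg.Agent.Schreier.CoTwoStab.isSimpleGroup
  have hcard : Nat.card Spor.Co2 = 42305421312000 := Cfsg.Agent.BiChar.Small.card_Co2
  have hfin : Finite Spor.Co2 := Nat.finite_of_card_ne_zero (by rw [hcard]; norm_num)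
  have hfac : (Nat.card Spor.Co2).factorization 23 = 1 := by
    rw [hcard]; exact factorization_eq_one (by norm_num) (by norm_num)
  obtain ⟨μ, hμ⟩ := irr23 Cfsg.Agent.H419.Spor.Co2.inc Cfsg.Agent.H419.Spor.Co2.inc_injective
    (by rw [hcard]; norm_num) Cfsg.Agent.H419.Spor.Co2.k ⟨Cfsg.Agent.H419.Spor.Co3.y14, fun h => by
      have := Cfsg.Agent.H419.Spor.Co2.order
      rw [h, orderOf_one] at this
      norm_num at this⟩ Cfsg.Agent.H419.Spor.Co2.inc_k (w := Cfsg.Agent.H419.Spor.Co2.leechW) (fun h => by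
        have := congrArg (fun v : leechLattice => (v : GolayPt → ℤ) none) h
        exact absurd this (by decide)) Cfsg.Agent.H419.Spor.Co2.inc_fix
  exact Cfsg.Agent.H713.Spor.Small.hasDZ_of_lchi hfac hμ

variable {S : Type u} [Group S] [Finite S]

theorem oneZero_co3 (h : Spor.IsoCo3 S) : ¬ Red.OneZero S := by
  obtain ⟨e⟩ := h
  exact of_model e 1 (p := 23) (by norm_num) (by norm_num) hasDZ_co3 card_co3
    (by norm_num) (by norm_num) (by norm_num) (by norm_num)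

theorem oneZero_co2 (h : Spor.IsoCo2 S) : ¬ Red.OneZero S := by
  obtain ⟨e⟩ := h
  exact of_model e 1 (p := 23) (by norm_num) (by norm_num) hasDZ_co2 Cfsg.Agent.BiChar.Small.card_Co2
    (by norm_num) (by norm_num) (by norm_num) (by norm_num)

omit [Finite S] in
theorem oneZero_co1 (h : Spor.IsoCo1 S) : ¬ Red.OneZero S := by
  obtain ⟨e⟩ := h
  intro h1
  have h2 : Red.OneZero Spor.Co1 := Red.OneZero.comp_surjective h1 e.toMonoidHom e.surjective
  have e6 := Cfsg.Agent.H419.Spor.Co1.psi_perm Cfsg.Agent.H419.Spor.Co1.y6_fix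
    Cfsg.Agent.H419.Spor.Co1.y6_fix2
  have e12 := Cfsg.Agent.H419.Spor.Co1.psi_perm Cfsg.Agent.H419.Spor.Co1.y12_fix
    Cfsg.Agent.H419.Spor.Co1.y12_fix2
  obtain ⟨θ, hθ⟩ := Cfsg.Agent.H419.Spor.Co1.exists_irr e6
  have h3 := h2 θ θ.2 _ _ ((hθ _).trans e6) ((hθ _).trans e12)
  have h4 := Cfsg.Agent.H419.Count.orderOf_eq_of_isConj h3
  rw [Cfsg.Agent.H419.Spor.Co1.order6, Cfsg.Agent.H419.Spor.Co1.order12] at h4
  norm_num at h4

end Cfsg.Agent.H723.Spor.Co
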