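import Cfsg.Agent.H710.Spor.Ly
import Cfsg.Agent.H723.Red

/-!
# `Ly`: an element of order 22 with centralizer of order 22, not conjugate to its inverse (helper723)
-/

set_option autoImplicit false

namespace Cfsg.Agent.H723.Spor.Ly

open Cfsg Subgroup Equiv Cfsg.Agent.H713 Cfsg.Agent.H710.VanCount Cfsg.Agent.SporRec.TwoAn
open Cfsg.Agent.H710.Spor.Ly

universe u

theorem type11 : t11.cycleType = {11} := by decide +kernel

theorem card11 : Nat.card (centralizer ({t11} : Set (Perm (Fin 11)))) = 11 := by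
  rw [Equiv.Perm.nat_card_centralizer, type11]
  decide

theorem rev11 : Fin.revPerm * t11 = t11⁻¹ * Fin.revPerm ∧ Perm.sign (Fin.revPerm : Perm (Fin 11)) = -1 := by
  decide +kernel

/-- The centralizer of the 11-cycle. -/
theorem mem_zpowers {σ : Perm (Fin 11)} (h : σ * t11 = t11 * σ) : σ ∈ zpowers t11 := by
  have h1 : zpowers t11 = centralizer ({t11} : Set (Perm (Fin 11))) := by
    refine Subgroup.eq_of_le_of_card_ge ?_ ?_
    · rw [zpowers_le]
      exact mem_centralizer_singleton_iff.2 rfl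
    · rw [card11, Nat.card_zpowers, o11]
  rw [h1]
  exact mem_centralizer_singleton_iff.2 h

theorem not_inv {σ : Perm (Fin 11)} (hs : Perm.sign σ = 1) : σ * t11 * σ⁻¹ ≠ t11⁻¹ := by
  intro h
  have h1 : σ * t11 = t11⁻¹ * σ := by rw [← h]; group
  obtain ⟨hr, hr1⟩ := rev11
  have h2 : (Fin.revPerm : Perm (Fin 11))⁻¹ * σ * t11 = t11 * ((Fin.revPerm : Perm (Fin 11))⁻¹ * σ) := by
    have h3 : (Fin.revPerm : Perm (Fin 11))⁻¹ * t11⁻¹ = t11 * (Fin.revPerm : Perm (Fin 11))⁻¹ := by
      have h4 : t11⁻¹ * Fin.revPerm * t11⁻¹ = Fin.revPerm := by rw [← hr]; group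
      calc (Fin.revPerm : Perm (Fin 11))⁻¹ * t11⁻¹ = (t11 * Fin.revPerm)⁻¹ := by group
        _ = (t11 * (t11⁻¹ * Fin.revPerm * t11⁻¹))⁻¹ := by rw [h4]
        _ = t11 * (Fin.revPerm : Perm (Fin 11))⁻¹ := by group
    rw [mul_assoc, h1, ← mul_assoc, h3, mul_assoc]
  obtain ⟨k, hk⟩ := Subgroup.mem_zpowers_iff.1 (mem_zpowers h2)
  have h3 : Perm.sign t11 = 1 := by decide +kernel
  have h4 := congrArg Perm.sign hk
  rw [map_zpow, h3, one_zpow, map_mul, map_inv, hr1, hs] at h4
  exact absurd h4 (by decide)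

section mt

variable {G : Type*} [Group G] [Finite G] (L : Cfsg.Agent.TypeM.Two.MT 11 G)
include L

theorem exists22 : ∃ w : G, orderOf w = 22 ∧ Nat.card (centralizer ({w} : Set G)) ≤ 22 ∧ ¬ IsConj w (w ^ 21) := by
  obtain ⟨y, hy, ho, h1, h2⟩ := odd_orders L.K (Perm.mem_alternatingGroup.2 sgn.2.2.2.2.1)
    (by decide) o11
  set w : centralizer ({L.t} : Set G) := y * L.K.z with hw
  have hπ : L.K.π w = t11 := by rw [map_mul, L.K.π_z, mul_one, hy]
  refine ⟨(w : G), by rw [Subgroup.orderOf_coe, h1], ?_, ?_⟩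
  · refine (card_centralizer_le L h2).trans ?_
    have hmem : ∀ g : ↥(centralizer ({w} : Set (centralizer ({L.t} : Set G)))),
        L.K.π g ∈ centralizer ({t11} : Set (Perm (Fin 11))) := by
      intro g
      rw [mem_centralizer_singleton_iff, ← hπ, ← map_mul, ← map_mul, mem_centralizer_singleton_iff.1 g.2]
    let φ : ↥(centralizer ({w} : Set (centralizer ({L.t} : Set G)))) →*
        ↥(centralizer ({t11} : Set (Perm (Fin 11)))) :=
      (L.K.π.comp (centralizer ({w} : Set (centralizer ({L.t} : Set G)))).subtype).codRestrict _ hmem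
    have hker : Nat.card ↥φ.ker ≤ 2 := by
      classical
      let ι : ↥φ.ker → ↥(centralizer ({L.t} : Set G)) := fun g => g.1.1
      have h3 : ∀ g : ↥φ.ker, ι g = 1 ∨ ι g = L.K.z := by
        intro g
        have h4 := congrArg Subtype.val (MonoidHom.mem_ker.1 g.2)
        exact (L.K.ker _).1 h4
      have h4 : Function.Injective fun g : ↥φ.ker => (if ι g = 1 then (0 : Fin 2) else 1) := by
        intro a b hab
        have key : ι a = ι b := by
          simp only at hab
          rcases h3 a with ha | ha <;> rcases h3 b with hb | hb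
          · rw [ha, hb]
          · rw [ha, hb, if_pos rfl, if_neg L.K.z_ne] at hab
            exact absurd hab (by decide)
          · rw [ha, hb, if_pos rfl, if_neg L.K.z_ne] at hab
            exact absurd hab (by decide)
          · rw [ha, hb]
        exact Subtype.ext (Subtype.ext key)
      have h5 := Nat.card_le_card_of_injective _ h4
      rwa [Nat.card_fin] at h5
    have hr : Nat.card ↥φ.range ≤ 11 := by
      have h3 := Nat.card_le_card_of_injective _ (Subgroup.subtype_injective φ.range)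
      rwa [card11] at h3
    have h3 := Subgroup.card_mul_index φ.ker
    rw [Subgroup.index_ker] at h3
    rw [← h3]
    exact Nat.mul_le_mul hker hr
  · intro hc
    obtain ⟨g, hg⟩ := isConj_iff.1 hc
    have ht : (w : G) ^ 11 = L.t := (congrArg Subtype.val h2).trans L.hz
    have ht2 : L.t ^ 2 = 1 := by
      have h3 := L.orderOf_t
      rw [← h3, pow_orderOf_eq_one]
    have hgt : g * L.t * g⁻¹ = L.t := by
      have h3 : (g * (w : G) * g⁻¹) ^ 11 = ((w : G) ^ 21) ^ 11 := by rw [hg]
      rw [conj_pow, ht, ← pow_mul, mul_comm 21 11, pow_mul, ht] at h3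
      rw [h3, show 21 = 2 * 10 + 1 from rfl, pow_succ, pow_mul, ht2, one_pow, one_mul]
    have hgm : g ∈ centralizer ({L.t} : Set G) := by
      rw [mem_centralizer_singleton_iff]
      exact mul_inv_eq_iff_eq_mul.1 hgt
    have h3 : (⟨g, hgm⟩ : centralizer ({L.t} : Set G)) * w * (⟨g, hgm⟩ : centralizer ({L.t} : Set G))⁻¹ = w ^ 21 :=
      Subtype.ext hg
    have h4 := congrArg L.K.π h3
    rw [map_mul, map_mul, map_inv, map_pow, hπ] at h4
    have h5 : t11 ^ 21 = t11⁻¹ := by decide +kernel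
    rw [h5] at h4
    refine not_inv ?_ h4
    have h6 : L.K.π ⟨g, hgm⟩ ∈ alternatingGroup (Fin 11) := by
      rw [← L.K.range_eq]
      exact ⟨_, rfl⟩
    exact Perm.mem_alternatingGroup.1 h6

end mt

theorem oneZero_ly {S : Type u} [Group S] [Finite S] (h : Spor.IsoLy S) : ¬ Red.OneZero S := by
  obtain ⟨e⟩ := h
  intro h1
  have h2 : Red.OneZero Cfsg.Spor.Ly := Red.OneZero.comp_surjective h1 e.toMonoidHom e.surjective
  have hfin : Finite Cfsg.Spor.Ly := Cfsg.Agent.Ly.Setup.finite_ly
  obtain ⟨L⟩ := Cfsg.Agent.TypeM.FactsLy.exists_mt_ly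
  obtain ⟨x, hx, hx', hn⟩ := exists22 L
  have hc := card_classes
  obtain ⟨χ, hχ⟩ := exists_zero_of_card x (by omega)
  exact hn (h2 χ χ.2 x (x ^ 21) hχ (zero_pow χ hχ (by rw [hx]; norm_num)))

end Cfsg.Agent.H723.Spor.Ly
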