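import Cfsg.Agent.H620.RowSporB
import Cfsg.Agent.H997.OutHe2
import Cfsg.Agent.KFacts.He.Classes
import Cfsg.Agent.H710.Spor.HN
import Cfsg.Agent.H710.Spor.Ly
import Cfsg.Agent.H710.Spor.He
import Cfsg.Agent.H419.Spor.Co1
import Cfsg.Agent.H713.Spor.ON
import Cfsg.Agent.H713.Spor.JJ
import Cfsg.Agent.H723.Spor.Tool

/-!
# The sporadic rows of S4983 (helper723)
-/

set_option autoImplicit false

namespace Cfsg.Agent.H723.Spor.RowsA

open Cfsg Subgroup Cfsg.Agent.H713 Cfsg.Agent.H665.NoPQ Cfsg.Agent.H723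
open Cfsg.Agent.H723.Spor.Tool

universe u

variable {S : Type u} [Group S] [Finite S]

/-- A zero `x` of an irreducible character such that `x` is not conjugate to `x ^ k`, `k` prime to the order. -/
theorem kill_van {G : Type*} [Group G] [Finite G] {x : G} (hx : Van G x) {k : ℕ} (hk : k.Coprime (orderOf x))
    (hn : ¬ IsConj x (x ^ k)) : ¬ Red.OneZero G := by
  intro h
  obtain ⟨χ, hχ⟩ := hx
  exact hn (h χ χ.2 x (x ^ k) hχ (Cfsg.Agent.H710.VanCount.zero_pow χ hχ hk))

theorem oneZero_m11 (h : Spor.IsoM11 S) : ¬ Red.OneZero S := by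
  have h1 : Cfsg.IsM11 S := Cfsg.Agent.UGT.End.MEleven.isM11 h
  exact of_card 2 (p := 3) (by norm_num) (by norm_num) (Cfsg.Agent.H419.Spor.M11.dz_three h1) h1.2 (by norm_num)
    (by norm_num) (by norm_num) (by norm_num)

theorem oneZero_m12 (h : Spor.IsoM12 S) : ¬ Red.OneZero S := by
  obtain ⟨e⟩ := h
  exact of_model e 1 (p := 5) (by norm_num) (by norm_num) Cfsg.Agent.H714.SporRows.hasDZ_five
    Cfsg.Agent.H714.SporRows.card_m12 (by norm_num) (by norm_num) (by norm_num) (by norm_num)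

theorem oneZero_m22 (h : Spor.IsoM22 S) : ¬ Red.OneZero S := by
  obtain ⟨e⟩ := h
  have hM : Cfsg.IsM22 Spor.M22 :=
    ⟨Cfsg.Agent.SporadicA.MathieuRecog.simple_M22, Cfsg.Agent.SporadicA.MathieuRecog.card_M22⟩
  have hfin : Finite Spor.M22 := Nat.finite_of_card_ne_zero (by rw [hM.2]; norm_num)
  exact of_model e 2 (p := 3) (by norm_num) (by norm_num) (Cfsg.Agent.H419.Spor.M22.dz_three hM)
    hM.2 (by norm_num) (by norm_num) (by norm_num) (by norm_num)

theorem oneZero_m23 (h : Spor.IsoM23 S) : ¬ Red.OneZero S := by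
  obtain ⟨e⟩ := h
  exact of_model e 1 (p := 11) (by norm_num) (by norm_num) Cfsg.Agent.H620.RowSporA.hasDZ_m23
    Cfsg.Agent.SporadicA.MathieuRecog.card_M23 (by norm_num) (by norm_num) (by norm_num) (by norm_num)

theorem oneZero_m24 (h : Spor.IsoM24 S) : ¬ Red.OneZero S := by
  obtain ⟨e⟩ := h
  exact of_model e 1 (p := 23) (by norm_num) (by norm_num) Cfsg.Agent.H620.RowSporA.hasDZ_m24
    Cfsg.Agent.SporadicA.M24Trans.card_M24 (by norm_num) (by norm_num) (by norm_num) (by norm_num)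

theorem oneZero_j1 (h : Spor.IsoJ1 S) : ¬ Red.OneZero S := by
  obtain ⟨e⟩ := h
  exact of_model e 1 (p := 19) (by norm_num) (by norm_num) Cfsg.Agent.H714.SporRows.hasDZ_nineteen
    Cfsg.Agent.H714.SporRows.card_j1 (by norm_num) (by norm_num) (by norm_num) (by norm_num)

/-- Groups with an involution centralizer `2^{1+4}:A_5`. -/
theorem oneZero_ten {G : Type u} [Group G] [Finite G] {x : G} (hx : orderOf x = 10)
    (hle : centralizer ({x} : Set G) ≤ zpowers x) (hn : ∀ g, g * x * g⁻¹ ≠ x ^ 3)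
    (hk : 10 < Nat.card (ConjClasses G)) : ¬ Red.OneZero G := by
  refine kill_van (x := x) (k := 3) (Cfsg.Agent.H419.Count.van_of_card_lt ?_) (by rw [hx]; norm_num) fun h => ?_
  · have h1 := Subgroup.card_le_of_le hle
    rw [Nat.card_zpowers, hx] at h1
    omega
  · obtain ⟨g, hg⟩ := isConj_iff.1 h
    exact hn g hg

theorem oneZero_j2 (h : Spor.IsoJ2 S) : ¬ Red.OneZero S := by
  obtain ⟨t, u, Q, v, ρ, D⟩ := Cfsg.Agent.KFacts.J2.Facts.exists_dat_of h
  have hcard := D.card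
  obtain ⟨x, hx, hx5, hle, hn⟩ := Cfsg.Agent.H713.Spor.JJ.exists_ten rfl D.M
  refine oneZero_ten hx hle hn ?_
  have h1 := Cfsg.Agent.H419.Count.card_orders_succ_le (G := S)
    ({1, 2, 3, 4, 5, 6, 7, 8, 10, 12} : Finset ℕ) ?_ D.F.nconj (by rw [D.F.hz, D.F.hu])
  · have h2 : ({1, 2, 3, 4, 5, 6, 7, 8, 10, 12} : Finset ℕ).card = 10 := by decide
    omega
  · intro n hn
    by_cases h9 : n ∈ ({1, 2, 3, 4, 5, 6, 8, 10, 12} : Finset ℕ)
    · exact Cfsg.Agent.H419.Spor.JModel.exists_orders' D.M n h9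
    · have h3 : n = 7 := by
        simp only [Finset.mem_insert, Finset.mem_singleton] at hn h9
        omega
      subst h3
      have : Fact (Nat.Prime 7) := ⟨by norm_num⟩
      exact exists_prime_orderOf_dvd_card' 7 (by rw [hcard]; norm_num)

theorem oneZero_j3 (h : Spor.IsoJ3 S) : ¬ Red.OneZero S := by
  obtain ⟨hcard, hM, hone, -⟩ := Cfsg.Agent.CpAutJThree.base h
  have hm : ∀ u : S, orderOf u = 2 → Nat.card (Subgroup.centralizer ({u} : Set S)) = 1920 :=
    fun u hu => (hM u hu).2.1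
  have : Fact (Nat.Prime 19) := ⟨by norm_num⟩
  have h19 : HasDZ 19 S := by
    refine hasDZ_of_card (by norm_num) (by rw [hcard]; exact factorization_eq_one (by norm_num) (by norm_num))
      (by rw [hcard]; norm_num) (m := 1920) hm (by norm_num) ?_
    intro e a b x t hx ht hb he he2 hbm hbo hao hd h1 h2
    rw [hcard] at hd h1 h2
    exact Cfsg.Agent.H620.RowSporB.arith_j3 e a b he he2 hbm hbo h1 h2
  exact of_card 1 (p := 19) (by norm_num) (by norm_num) h19 hcard (by norm_num)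
    (by norm_num) (by norm_num) (by norm_num)

theorem oneZero_hs (h : Spor.IsoHS S) : ¬ Red.OneZero S := by
  obtain ⟨e⟩ := h
  obtain ⟨hs, hcard⟩ := Cfsg.Agent.H419.Spor.HS.facts
  have : Fact (Nat.Prime 11) := ⟨by norm_num⟩
  exact of_model e 1 (p := 11) (by norm_num) (by norm_num) (Cfsg.Agent.H713.Spor.HS.hasDZ 11 (Or.inr rfl))
    hcard (by norm_num) (by norm_num) (by norm_num) (by norm_num)

omit [Finite S] in
theorem oneZero_mcl (h : Spor.IsoMcL S) : ¬ Red.OneZero S := by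
  obtain ⟨hfin, -, hcard, -⟩ := TypeM.FactsMcL.facts h
  obtain ⟨e⟩ := h
  exact of_card 1 (p := 11) (by norm_num) (by norm_num)
    (HasDZ.mulEquiv e.symm Cfsg.Agent.H620.RowSporA.hasDZ_mcl) hcard (by norm_num)
    (by norm_num) (by norm_num) (by norm_num)

theorem oneZero_suz (h : Spor.IsoSuz S) : ¬ Red.OneZero S := by
  have hcard : Nat.card S = 448345497600 := by
    obtain ⟨e⟩ := h
    rw [Nat.card_congr e.toEquiv]
    exact Cfsg.Agent.OrdDiv.table_spor Spor.Suz (.suz, 448345497600) (by decide +kernel) ⟨MulEquiv.refl _⟩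
  exact of_card 1 (p := 7) (by norm_num) (by norm_num)
    (Cfsg.Agent.H690.Spor.RankRows.suz h (Or.inl rfl)) hcard (by norm_num)
    (by norm_num) (by norm_num) (by norm_num)

theorem oneZero_ru (h : Spor.IsoRu S) : ¬ Red.OneZero S := by
  have h7 := Cfsg.Agent.H690.Spor.Ru.hasDZ h (p := 29) (by simp)
  obtain ⟨e⟩ := h
  have hcard : Nat.card S = 145926144000 := by
    rw [Nat.card_congr (e.trans Cfsg.Agent.RuLat.Main.equiv).toEquiv]
    exact Cfsg.Agent.SporadicB.RuOrder.card_H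
  exact of_card 1 (p := 29) (by norm_num) (by norm_num) h7 hcard (by norm_num)
    (by norm_num) (by norm_num) (by norm_num)

theorem oneZero_on (h : Spor.IsoON S) : ¬ Red.OneZero S := by
  obtain ⟨e⟩ := h
  exact of_model e 1 (p := 19) (by norm_num) (by norm_num) Cfsg.Agent.H713.Spor.ON.hasDZ_19
    Cfsg.Agent.KFacts.ON.OneClass.card_ON (by norm_num) (by norm_num) (by norm_num) (by norm_num)

theorem card_hn : Nat.card Cfsg.Spor.HN = 273030912000000 := Cfsg.Agent.S1701.result.2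

theorem oneZero_hn (h : Spor.IsoHN S) : ¬ Red.OneZero S := by
  obtain ⟨e⟩ := h
  exact of_model e 1 (p := 19) (by norm_num) (by norm_num) Cfsg.Agent.H710.Spor.HN.hasDZ_19
    card_hn (by norm_num) (by norm_num) (by norm_num) (by norm_num)

theorem oneZero_tits [IsSimpleGroup S] (h : Lie.IsoTits S) : ¬ Red.OneZero S := by
  have hcard : Nat.card S = 17971200 := Cfsg.Agent.BiChar.Small.card_of_isoTits h
  exact of_card 1 (p := 13) (by norm_num) (by norm_num)
    (Cfsg.Agent.H690.Spor.Tits.hasDZ h (by norm_num) (by norm_num) (by norm_num)) hcard (by norm_num)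
    (by norm_num) (by norm_num) (by norm_num)

theorem hasDZ_he : HasDZ 17 Cfsg.Spor.He := by
  have : Fact (Nat.Prime 17) := ⟨by norm_num⟩
  have hz : orderOf Cfsg.Agent.KFacts.He.Bound.z = 2 := by
    rw [Cfsg.Agent.H710.Spor.He.z_eq]
    exact Cfsg.Agent.H710.Spor.He.o2
  refine hasDZ_of_two_classes (s := Cfsg.Agent.KFacts.He.Bound.z) (t := Cfsg.Agent.H710.Spor.He.E [0, 8]) ?_ hz
    Cfsg.Agent.H710.Spor.He.o2' Cfsg.Agent.H710.Spor.He.not_conj_z_v
  intro u hu
  obtain ⟨h1, h2⟩ := orderOf_two hu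
  rcases Cfsg.Agent.KFacts.He.Classes.two_classes_a h1 h2 with ⟨g, hg⟩ | ⟨g, hg⟩
  · rw [Cfsg.Agent.Blocks.SylowIn.card_centralizer_of_isConj (isConj_iff.2 ⟨g, hg⟩),
      Cfsg.Agent.KFacts.He.Classes.card_centralizer]
    norm_num
  · rw [Cfsg.Agent.Blocks.SylowIn.card_centralizer_of_isConj (isConj_iff.2 ⟨g, hg⟩)]
    intro h17
    have h3 := h17.trans Cfsg.Agent.H997.OutHe.card_cent_a
    norm_num at h3

theorem oneZero_he (h : Spor.IsoHe S) : ¬ Red.OneZero S := by
  obtain ⟨e⟩ := h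
  exact of_model e 1 (p := 17) (by norm_num) (by norm_num) hasDZ_he
    Cfsg.Agent.KFacts.He.Classes.card_he (by norm_num) (by norm_num) (by norm_num) (by norm_num)

end Cfsg.Agent.H723.Spor.RowsA
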