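import Cfsg.Agent.H723.Final
import Cfsg.Agent.H723.Spor.Big
import Cfsg.Agent.H723.Spor.JFour
import Cfsg.Agent.H723.Spor.Th
import Cfsg.Agent.H723.Spor.Ly
import Cfsg.Agent.H723.Spor.Co
import Cfsg.Agent.H723.Spor.RowsA

/-!
# All sporadic rows of S4983 (helper723)
-/

set_option autoImplicit false

namespace Cfsg.Agent.H723.Spor.All

open Cfsg

universe u

theorem sporRow : Final.SporRow.{u} := by
  intro X _ _ _ h
  rcases h with h | h
  · rcases h with h | h | h | h | h | h | h | h | h | h | h | h | h | h | h | h | h | h | h | h | h | h | h | h | h |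
      h
    · exact RowsA.oneZero_m11 h
    · exact RowsA.oneZero_m12 h
    · exact RowsA.oneZero_m22 h
    · exact RowsA.oneZero_m23 h
    · exact RowsA.oneZero_m24 h
    · exact RowsA.oneZero_j1 h
    · exact RowsA.oneZero_j2 h
    · exact RowsA.oneZero_j3 h
    · exact JFour.oneZero_j4 h
    · exact Co.oneZero_co1 h
    · exact Co.oneZero_co2 h
    · exact Co.oneZero_co3 h
    · exact RowsA.oneZero_mcl h
    · exact RowsA.oneZero_hs h
    · exact RowsA.oneZero_suz h
    · exact RowsA.oneZero_he h
    · exact RowsA.oneZero_ru h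
    · exact RowsA.oneZero_on h
    · exact Ly.oneZero_ly h
    · exact Big.fi22 h
    · exact Big.fi23 h
    · exact Big.fi24 h
    · exact RowsA.oneZero_hn h
    · exact Th.oneZero_th h
    · exact Big.b h
    · exact Big.m h
  · exact RowsA.oneZero_tits h

end Cfsg.Agent.H723.Spor.All
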